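import Groth.Agent.PullFlat.Null
import Mathlib.Algebra.MvPolynomial.CommRing
import Mathlib.Algebra.MvPolynomial.Variables
import Mathlib.Algebra.Category.Ring.FilteredColimits
import Mathlib.Algebra.Category.Ring.Limits
import Mathlib.CategoryTheory.Sites.LeftExact
import Mathlib.CategoryTheory.Sites.LocallyBijective
import Mathlib.RingTheory.Ideal.Quotient.Operations

/-!
# Sections of the pulled-back sheaf of rings

Every section of `f⁻¹O_D` comes locally from a section of `O_D` (`exists_pl0`), and such a section vanishes only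
if it vanishes locally before pulling back (`pl0_eq_zero`).
-/

set_option autoImplicit false
set_option linter.style.haveILetI false

universe u

open CategoryTheory CategoryTheory.Limits Opposite ModSite

attribute [local instance] Classical.propDecidable

namespace Groth.Agent.InvRing

open Groth.Agent.ModFlat (map_ring_comp)
open Groth.Agent.PullFlat (covFlat_rmor exists_common exists_equalize exists_cover_bind)

variable {C D : Type u} [SmallCategory C] [SmallCategory D] {J : GrothendieckTopology C}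
  {K : GrothendieckTopology D} {O_C : Sheaf J CommRingCat.{u}} {O_D : Sheaf K CommRingCat.{u}}
  (f : RMor O_C O_D)

/-- The unit `O_D ⟶ f_* f⁻¹O_D`. -/
noncomputable abbrev unit0 : O_D ⟶ (f.fn.sheafPushforwardContinuous CommRingCat.{u} K J).obj f.invRing :=
  (f.fn.sheafAdjunctionContinuous CommRingCat.{u} K J).unit.app O_D

/-- A pulled-back function, in `f⁻¹O_D`. -/
noncomputable def pl0 {W : C} {V : D} (b : W ⟶ f.fn.obj V) : O_D.obj.obj (op V) →+* f.invRing.obj.obj (op W) :=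
  (f.invRing.obj.map b.op).hom.comp ((unit0 f).hom.app (op V)).hom

theorem pl0_res {W W' : C} {V : D} (b : W ⟶ f.fn.obj V) (g : W' ⟶ W) (r : O_D.obj.obj (op V)) :
    (f.invRing.obj.map g.op).hom (pl0 f b r) = pl0 f (g ≫ b) r :=
  (map_ring_comp (O := f.invRing) g b _).symm

theorem pl0_map {W : C} {V V' : D} (b : W ⟶ f.fn.obj V') (q : V' ⟶ V) (r : O_D.obj.obj (op V)) :
    pl0 f b ((O_D.obj.map q.op).hom r) = pl0 f (b ≫ f.fn.map q) r := by
  show (f.invRing.obj.map b.op).hom (((unit0 f).hom.app (op V')).hom ((O_D.obj.map q.op).hom r)) = _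
  have h := ConcreteCategory.congr_hom ((unit0 f).hom.naturality q.op) r
  refine (congrArg (f.invRing.obj.map b.op).hom h).trans ?_
  exact (map_ring_comp (O := f.invRing) b (f.fn.map q) _).symm

/-- Variables over `W`. -/
abbrev Var (W : C) : Type u := Σ V : D, (W ⟶ f.fn.obj V) × O_D.obj.obj (op V)

/-- Restriction of variables. -/
def resV {W W' : C} (g : W' ⟶ W) (x : Var f W) : Var f W' := ⟨x.1, g ≫ x.2.1, x.2.2⟩

variable {f}

/-- `ρ` evaluates the variables in `s` along a refinement to `V'`. -/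
def Fits {W W' : C} (g : W' ⟶ W) {V' : D} (b : W' ⟶ f.fn.obj V') (s : Finset (Var f W))
    (ρ : Var f W → O_D.obj.obj (op V')) : Prop :=
  ∀ x ∈ s, ∃ q : V' ⟶ x.1, g ≫ x.2.1 = b ≫ f.fn.map q ∧ ρ x = (O_D.obj.map q.op).hom x.2.2

/-- Evaluation of formal polynomials. -/
noncomputable def evalV {W : C} {V' : D} (ρ : Var f W → O_D.obj.obj (op V')) :
    MvPolynomial (Var f W) ℤ →+* O_D.obj.obj (op V') :=
  MvPolynomial.eval₂Hom (Int.castRingHom _) ρ

theorem evalV_X {W : C} {V' : D} (ρ : Var f W → O_D.obj.obj (op V')) (x : Var f W) :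
    evalV ρ (MvPolynomial.X x) = ρ x := MvPolynomial.eval₂Hom_X' _ _ _

theorem evalV_res {W : C} {V' V'' : D} (e : V'' ⟶ V') (ρ : Var f W → O_D.obj.obj (op V'))
    (p : MvPolynomial (Var f W) ℤ) :
    (O_D.obj.map e.op).hom (evalV ρ p) = evalV (fun x => (O_D.obj.map e.op).hom (ρ x)) p := by
  refine RingHom.congr_fun (f := (O_D.obj.map e.op).hom.comp (evalV ρ))
    (MvPolynomial.ringHom_ext (fun r => ?_) (fun x => ?_)) p
  · simp [evalV]
  · simp [evalV]

theorem evalV_congr {W : C} {V' : D} {ρ ρ' : Var f W → O_D.obj.obj (op V')} (p : MvPolynomial (Var f W) ℤ)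
    (h : ∀ x ∈ p.vars, ρ x = ρ' x) : evalV ρ p = evalV ρ' p :=
  MvPolynomial.eval₂Hom_congr' rfl (fun {x} hx _ => h x hx) rfl

theorem Fits.mono {W W' : C} {g : W' ⟶ W} {V' : D} {b : W' ⟶ f.fn.obj V'} {s t : Finset (Var f W)}
    {ρ : Var f W → O_D.obj.obj (op V')} (h : Fits g b s ρ) (hts : t ⊆ s) : Fits g b t ρ :=
  fun x hx => h x (hts hx)

theorem Fits.pull {W W' W'' : C} {g : W' ⟶ W} {V' V'' : D} {b : W' ⟶ f.fn.obj V'} {s : Finset (Var f W)}
    {ρ : Var f W → O_D.obj.obj (op V')} (h : Fits g b s ρ) (k : W'' ⟶ W') (e : V'' ⟶ V')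
    (b' : W'' ⟶ f.fn.obj V'') (hb : k ≫ b = b' ≫ f.fn.map e) :
    Fits (k ≫ g) b' s (fun x => (O_D.obj.map e.op).hom (ρ x)) := by
  intro x hx
  obtain ⟨q, hq, hρ⟩ := h x hx
  refine ⟨e ≫ q, by rw [Category.assoc, hq, reassoc_of% hb, f.fn.map_comp], ?_⟩
  exact (congrArg _ hρ).trans (map_ring_comp e q _).symm

theorem exists_fits {W : C} (s : Finset (Var f W)) :
    ∃ S ∈ J W, ∀ ⦃W' : C⦄ (g : W' ⟶ W), S g →
      ∃ (V' : D) (b : W' ⟶ f.fn.obj V') (ρ : Var f W → O_D.obj.obj (op V')), Fits g b s ρ := by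
  let e := s.equivFin
  obtain ⟨S, hS, hS'⟩ := exists_common f (fun i => (e.symm i).1.1) (fun i => (e.symm i).1.2.1)
  refine ⟨S, hS, fun W' g hg => ?_⟩
  obtain ⟨V', b, q, hq⟩ := hS' g hg
  refine ⟨V', b, fun x => if hx : x ∈ s then (O_D.obj.map (q (e ⟨x, hx⟩)).op).hom (e.symm (e ⟨x, hx⟩)).1.2.2 else 0,
    fun x hx => ?_⟩
  simp only [dif_pos hx]
  have key : ∀ (z : Var f W) (qz : V' ⟶ z.1), z = x → g ≫ z.2.1 = b ≫ f.fn.map qz →
      ∃ q : V' ⟶ x.1, g ≫ x.2.1 = b ≫ f.fn.map q ∧ (O_D.obj.map qz.op).hom z.2.2 = (O_D.obj.map q.op).hom x.2.2 := by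
    rintro z qz rfl h
    exact ⟨qz, h, rfl⟩
  exact key _ (q (e ⟨x, hx⟩)) (congrArg Subtype.val (e.symm_apply_apply ⟨x, hx⟩)) (hq _)

theorem Fits.agree {W W' : C} {g : W' ⟶ W} {V' : D} {b : W' ⟶ f.fn.obj V'} {s : Finset (Var f W)}
    {ρ ρ' : Var f W → O_D.obj.obj (op V')} (h : Fits g b s ρ) (h' : Fits g b s ρ') :
    ∃ S ∈ J W', ∀ ⦃W'' : C⦄ (k : W'' ⟶ W'), S k → ∃ (V'' : D) (e : V'' ⟶ V') (b' : W'' ⟶ f.fn.obj V''),
      k ≫ b = b' ≫ f.fn.map e ∧ ∀ x ∈ s, (O_D.obj.map e.op).hom (ρ x) = (O_D.obj.map e.op).hom (ρ' x) := by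
  let E := s.equivFin
  choose q hq hρ using h
  choose q' hq' hρ' using h'
  obtain ⟨S, hS, hS'⟩ := exists_equalize f (fun i => (E.symm i).1.1) (fun i => q _ (E.symm i).2)
    (fun i => q' _ (E.symm i).2) b (fun i => (hq _ (E.symm i).2).symm.trans (hq' _ (E.symm i).2))
  refine ⟨S, hS, fun W'' k hk => ?_⟩
  obtain ⟨V'', e, b', he, hb⟩ := hS' k hk
  refine ⟨V'', e, b', hb, fun x hx => ?_⟩
  have key : ∀ (z : {x // x ∈ s}), e ≫ q z.1 z.2 = e ≫ q' z.1 z.2 → (O_D.obj.map e.op).hom (ρ z.1) =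
      (O_D.obj.map e.op).hom (ρ' z.1) := fun z hz => by
    rw [hρ z.1 z.2, hρ' z.1 z.2, ← map_ring_comp, ← map_ring_comp, hz]
  have := key _ (he (E ⟨x, hx⟩))
  rwa [E.symm_apply_apply] at this

/-- A formal polynomial vanishing locally along refinements. -/
def Nul {W : C} (p : MvPolynomial (Var f W) ℤ) : Prop :=
  ∃ S ∈ J W, ∀ ⦃W' : C⦄ (g : W' ⟶ W), S g → ∃ (V' : D) (b : W' ⟶ f.fn.obj V')
    (ρ : Var f W → O_D.obj.obj (op V')), Fits g b p.vars ρ ∧ evalV ρ p = 0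

theorem Nul.elim {W W' : C} {p : MvPolynomial (Var f W) ℤ} (hp : Nul p) {g : W' ⟶ W} {V' : D}
    {b : W' ⟶ f.fn.obj V'} {ρ : Var f W → O_D.obj.obj (op V')} (h : Fits g b p.vars ρ) :
    ∃ S ∈ J W', ∀ ⦃W'' : C⦄ (k : W'' ⟶ W'), S k → ∃ (V'' : D) (e : V'' ⟶ V') (b' : W'' ⟶ f.fn.obj V''),
      k ≫ b = b' ≫ f.fn.map e ∧ (O_D.obj.map e.op).hom (evalV ρ p) = 0 := by
  obtain ⟨S, hS, hS'⟩ := hp
  refine exists_cover_bind _ (J.pullback_stable g hS) fun W₁ k hk => ?_
  obtain ⟨V₁, b₁, ρ₁, h₁, h₁0⟩ := hS' (k ≫ g) hk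
  obtain ⟨T, hT, hT'⟩ := (covFlat_rmor f).pair (k ≫ b) b₁
  refine exists_cover_bind _ hT fun W₂ k₂ hk₂ => ?_
  obtain ⟨V₂, e, e₁, b₂, he, he₁⟩ := hT' k₂ hk₂
  have F1 := h.pull (k₂ ≫ k) e b₂ (by rw [Category.assoc]; exact he)
  have F2 := h₁.pull k₂ e₁ b₂ he₁
  rw [← Category.assoc] at F2
  obtain ⟨R, hR, hR'⟩ := F1.agree F2
  refine ⟨R, hR, fun W₃ k₃ hk₃ => ?_⟩
  obtain ⟨V₃, e', b₃, hb₃, hag⟩ := hR' k₃ hk₃
  refine ⟨V₃, e' ≫ e, b₃, ?_, ?_⟩
  · rw [Category.assoc, Category.assoc, he, reassoc_of% hb₃, f.fn.map_comp]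
  · rw [map_ring_comp, evalV_res, evalV_res, evalV_congr p hag, ← evalV_res, ← evalV_res, h₁0, map_zero, map_zero]

theorem nul_zero {W : C} : Nul (0 : MvPolynomial (Var f W) ℤ) := by
  obtain ⟨S, hS, hS'⟩ := exists_fits (∅ : Finset (Var f W))
  refine ⟨S, hS, fun W' g hg => ?_⟩
  obtain ⟨V', b, ρ, h⟩ := hS' g hg
  exact ⟨V', b, ρ, h.mono (by rw [MvPolynomial.vars_0]), map_zero _⟩

theorem Nul.add {W : C} {p q : MvPolynomial (Var f W) ℤ} (hp : Nul p) (hq : Nul q) : Nul (p + q) := by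
  obtain ⟨S, hS, hS'⟩ := exists_fits (p.vars ∪ q.vars)
  refine exists_cover_bind _ hS fun W₁ g hg => ?_
  obtain ⟨V₁, b₁, ρ, h⟩ := hS' g hg
  obtain ⟨T, hT, hT'⟩ := hp.elim (h.mono Finset.subset_union_left)
  refine exists_cover_bind _ hT fun W₂ k hk => ?_
  obtain ⟨V₂, e, b₂, hb₂, hp0⟩ := hT' k hk
  have h₂ := h.pull k e b₂ hb₂
  obtain ⟨R, hR, hR'⟩ := hq.elim (h₂.mono Finset.subset_union_right)
  refine ⟨R, hR, fun W₃ k₃ hk₃ => ?_⟩
  obtain ⟨V₃, e', b₃, hb₃, hq0⟩ := hR' k₃ hk₃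
  refine ⟨V₃, b₃, fun x => (O_D.obj.map e'.op).hom ((O_D.obj.map e.op).hom (ρ x)), ?_, ?_⟩
  · rw [Category.assoc]
    exact (h₂.pull k₃ e' b₃ hb₃).mono (MvPolynomial.vars_add_subset p q)
  rw [map_add, ← evalV_res, ← evalV_res, hp0, map_zero, zero_add, ← evalV_res]
  exact hq0

theorem Nul.mul {W : C} (q : MvPolynomial (Var f W) ℤ) {p : MvPolynomial (Var f W) ℤ} (hp : Nul p) : Nul (q * p) := by
  obtain ⟨S, hS, hS'⟩ := exists_fits (q.vars ∪ p.vars)
  refine exists_cover_bind _ hS fun W₁ g hg => ?_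
  obtain ⟨V₁, b₁, ρ, h⟩ := hS' g hg
  obtain ⟨T, hT, hT'⟩ := hp.elim (h.mono Finset.subset_union_right)
  refine ⟨T, hT, fun W₂ k hk => ?_⟩
  obtain ⟨V₂, e, b₂, hb₂, hp0⟩ := hT' k hk
  exact ⟨V₂, b₂, _, (h.pull k e b₂ hb₂).mono (MvPolynomial.vars_mul q p),
    by rw [map_mul, ← evalV_res e ρ p, hp0, mul_zero]⟩

theorem Nul.rename {W W₁ : C} (g₀ : W₁ ⟶ W) {p : MvPolynomial (Var f W) ℤ} (hp : Nul p) :
    Nul (MvPolynomial.rename (resV f g₀) p) := by
  obtain ⟨S, hS, hS'⟩ := exists_fits (p.vars.image (resV f g₀))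
  refine exists_cover_bind _ hS fun W' g hg => ?_
  obtain ⟨V', b, ρ, h⟩ := hS' g hg
  have h₀ : Fits (g ≫ g₀) b p.vars (fun x => ρ (resV f g₀ x)) := fun x hx => by
    obtain ⟨q, hq, hρ⟩ := h _ (Finset.mem_image_of_mem _ hx)
    exact ⟨q, (Category.assoc _ _ _).trans hq, hρ⟩
  obtain ⟨T, hT, hT'⟩ := hp.elim h₀
  refine ⟨T, hT, fun W₂ k hk => ?_⟩
  obtain ⟨V₂, e, b₂, hb₂, hp0⟩ := hT' k hk
  refine ⟨V₂, b₂, _, (h.pull k e b₂ hb₂).mono (MvPolynomial.vars_rename (resV f g₀) p), ?_⟩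
  refine Eq.trans ?_ hp0
  rw [evalV_res]
  exact MvPolynomial.eval₂Hom_rename _ _ _ p

/-- Relations among variables on one object. -/
theorem nul_of_const {W : C} {V : D} (a : W ⟶ f.fn.obj V) (p : MvPolynomial (Var f W) ℤ)
    (ρ : Var f W → O_D.obj.obj (op V)) (hv : Fits (𝟙 W) a p.vars ρ) (h0 : evalV ρ p = 0) : Nul p := by
  refine ⟨⊤, J.top_mem W, fun W' g _ => ⟨V, g ≫ a, ρ, ?_, h0⟩⟩
  intro x hx
  obtain ⟨q, hq, hρ⟩ := hv x hx
  rw [Category.id_comp] at hq
  exact ⟨q, by rw [hq, Category.assoc], hρ⟩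

variable (f)

/-- Null polynomials. -/
noncomputable def nullI (W : C) : Ideal (MvPolynomial (Var f W) ℤ) where
  carrier := {p | Nul p}
  zero_mem' := nul_zero
  add_mem' h h' := h.add h'
  smul_mem' q _ h := h.mul q

/-- The presheaf of rings of classes. -/
noncomputable def qPre : Cᵒᵖ ⥤ CommRingCat.{u} where
  obj W := CommRingCat.of (MvPolynomial (Var f W.unop) ℤ ⧸ nullI f W.unop)
  map g := CommRingCat.ofHom (Ideal.quotientMap (nullI f _) (MvPolynomial.rename (resV f g.unop)).toRingHom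
    (fun _ hp => Nul.rename g.unop hp))
  map_id W := CommRingCat.hom_ext (Ideal.Quotient.ringHom_ext (MvPolynomial.ringHom_ext (fun r => by simp)
    (fun x => by
      show Ideal.Quotient.mk _ (MvPolynomial.rename (resV f (𝟙 _)) (MvPolynomial.X x)) = _
      rw [MvPolynomial.rename_X]
      simp [resV])))
  map_comp {W W' W''} g h := CommRingCat.hom_ext (Ideal.Quotient.ringHom_ext (MvPolynomial.ringHom_ext (fun r => by simp)
    (fun x => by
      show Ideal.Quotient.mk _ (MvPolynomial.rename (resV f (g ≫ h).unop) (MvPolynomial.X x)) =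
        Ideal.Quotient.mk _ (MvPolynomial.rename (resV f h.unop)
          (MvPolynomial.rename (resV f g.unop) (MvPolynomial.X x)))
      simp only [MvPolynomial.rename_X]
      simp [resV])))

/-- The class of a variable. -/
noncomputable def qVar {W : C} (x : Var f W) : (qPre f).obj (op W) := Ideal.Quotient.mk _ (MvPolynomial.X x)

theorem qPre_map_var {W W' : C} (g : W' ⟶ W) (x : Var f W) :
    (qPre f).map g.op (qVar f x) = qVar f (resV f g x) := by
  show Ideal.Quotient.mk _ (MvPolynomial.rename (resV f g) (MvPolynomial.X x)) = _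
  rw [MvPolynomial.rename_X]
  rfl

theorem qVar_hom (V : D) :
    (∀ r s : O_D.obj.obj (op V), qVar f ⟨V, 𝟙 (f.fn.obj V), r + s⟩ = qVar f ⟨V, 𝟙 _, r⟩ + qVar f ⟨V, 𝟙 _, s⟩) ∧
    (∀ r s : O_D.obj.obj (op V), qVar f ⟨V, 𝟙 (f.fn.obj V), r * s⟩ = qVar f ⟨V, 𝟙 _, r⟩ * qVar f ⟨V, 𝟙 _, s⟩) ∧
    qVar f ⟨V, 𝟙 (f.fn.obj V), (1 : O_D.obj.obj (op V))⟩ = 1 ∧
    qVar f ⟨V, 𝟙 (f.fn.obj V), (0 : O_D.obj.obj (op V))⟩ = 0 := by
  let mkv : O_D.obj.obj (op V) → Var f (f.fn.obj V) := fun r => ⟨V, 𝟙 _, r⟩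
  let ρ : Var f (f.fn.obj V) → O_D.obj.obj (op V) := fun x => if h : ∃ r, x = mkv r then h.choose else 0
  have hρ : ∀ r, ρ (mkv r) = r := fun r => by
    have h : ∃ r', mkv r = mkv r' := ⟨r, rfl⟩
    simp only [ρ, dif_pos h]
    exact (Prod.ext_iff.1 (eq_of_heq (Sigma.mk.inj_iff.1 h.choose_spec).2)).2.symm
  have key : ∀ p q : MvPolynomial (Var f (f.fn.obj V)) ℤ, (∀ x ∈ p.vars ∪ q.vars, ∃ r, x = mkv r) →
      evalV ρ p = evalV ρ q → (Ideal.Quotient.mk (nullI f _) p) = Ideal.Quotient.mk (nullI f _) q := fun p q hx he => by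
    refine (Ideal.Quotient.mk_eq_mk_iff_sub_mem _ _).2 ?_
    refine nul_of_const (𝟙 (f.fn.obj V)) _ ρ (fun x hxv => ?_) (by rw [map_sub, he, sub_self])
    obtain ⟨r, rfl⟩ := hx x (MvPolynomial.vars_sub_subset (p := p) (q := q) hxv)
    exact ⟨𝟙 V, by simp [mkv], by simp [hρ, mkv]⟩
  have hX : ∀ r, (MvPolynomial.X (mkv r) : MvPolynomial (Var f (f.fn.obj V)) ℤ).vars = {mkv r} :=
    fun r => MvPolynomial.vars_X
  refine ⟨fun r s => ?_, fun r s => ?_, ?_, ?_⟩
  · refine (key _ (MvPolynomial.X (mkv r) + MvPolynomial.X (mkv s)) (fun x hx => ?_) ?_).trans (map_add _ _ _)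
    · rcases Finset.mem_union.1 hx with hx | hx
      · rw [hX (r + s), Finset.mem_singleton] at hx
        exact ⟨_, hx⟩
      · rcases Finset.mem_union.1 (MvPolynomial.vars_add_subset _ _ hx) with hx | hx <;>
          rw [hX, Finset.mem_singleton] at hx <;> exact ⟨_, hx⟩
    · simp only [map_add, evalV_X]
      rw [hρ r, hρ s]
      exact hρ (r + s)
  · refine (key _ (MvPolynomial.X (mkv r) * MvPolynomial.X (mkv s)) (fun x hx => ?_) ?_).trans (map_mul _ _ _)
    · rcases Finset.mem_union.1 hx with hx | hx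
      · rw [hX (r * s), Finset.mem_singleton] at hx
        exact ⟨_, hx⟩
      · rcases Finset.mem_union.1 (MvPolynomial.vars_mul _ _ hx) with hx | hx <;>
          rw [hX, Finset.mem_singleton] at hx <;> exact ⟨_, hx⟩
    · simp only [map_mul, evalV_X]
      rw [hρ r, hρ s]
      exact hρ (r * s)
  · refine (key _ 1 (fun x hx => ?_) ?_).trans (map_one _)
    · rw [show (1 : MvPolynomial (Var f (f.fn.obj V)) ℤ).vars = ∅ from MvPolynomial.vars_one, Finset.union_empty,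
        hX 1, Finset.mem_singleton] at hx
      exact ⟨_, hx⟩
    · rw [map_one, evalV_X]
      exact hρ 1
  · refine (key _ 0 (fun x hx => ?_) ?_).trans (map_zero _)
    · rw [MvPolynomial.vars_0, Finset.union_empty, hX 0, Finset.mem_singleton] at hx
      exact ⟨_, hx⟩
    · rw [map_zero, evalV_X]
      exact hρ 0

theorem qVar_natural {V V' : D} (q : V' ⟶ V) (r : O_D.obj.obj (op V)) :
    qVar f ⟨V', 𝟙 (f.fn.obj V'), (O_D.obj.map q.op).hom r⟩ = qVar f ⟨V, f.fn.map q, r⟩ := by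
  refine (Ideal.Quotient.mk_eq_mk_iff_sub_mem _ _).2 ?_
  refine nul_of_const (𝟙 (f.fn.obj V')) _ (fun _ => (O_D.obj.map q.op).hom r) (fun x hx => ?_)
    (by rw [map_sub, evalV_X, evalV_X, sub_self])
  rcases Finset.mem_union.1 (MvPolynomial.vars_sub_subset (p := MvPolynomial.X _) (q := MvPolynomial.X _) hx) with hx | hx <;>
    rw [MvPolynomial.vars_X, Finset.mem_singleton] at hx <;> subst hx
  · exact ⟨𝟙 V', by simp, by simp⟩
  · exact ⟨q, by simp, rfl⟩

/-- The test sheaf of rings. -/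
noncomputable abbrev qSh : Sheaf J CommRingCat.{u} := (presheafToSheaf J CommRingCat.{u}).obj (qPre f)

/-- The class of a section of `O_D` in the test sheaf. -/
noncomputable def qHom (V : D) : O_D.obj.obj (op V) →+* (qPre f).obj (op (f.fn.obj V)) where
  toFun r := qVar f ⟨V, 𝟙 _, r⟩
  map_one' := (qVar_hom f V).2.2.1
  map_zero' := (qVar_hom f V).2.2.2
  map_add' := (qVar_hom f V).1
  map_mul' := (qVar_hom f V).2.1

/-- The canonical map to the test sheaf, before adjunction. -/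
noncomputable def θ0 : O_D ⟶ (f.fn.sheafPushforwardContinuous CommRingCat.{u} K J).obj (qSh f) :=
  ⟨{ app := fun V => CommRingCat.ofHom (qHom f V.unop) ≫ (toSheafify J (qPre f)).app (op (f.fn.obj V.unop))
     naturality := fun V V' q => by
      refine CommRingCat.hom_ext (RingHom.ext fun r => ?_)
      show (toSheafify J (qPre f)).app _ (qVar f ⟨V'.unop, 𝟙 _, (O_D.obj.map q).hom r⟩) =
        (qSh f).obj.map (f.fn.map q.unop).op ((toSheafify J (qPre f)).app _ (qVar f ⟨V.unop, 𝟙 _, r⟩))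
      rw [← NatTrans.naturality_apply, qPre_map_var]
      refine congrArg _ ((qVar_natural f q.unop r).trans ?_)
      simp [resV] }⟩

/-- The map to the test sheaf. -/
noncomputable def toQ : f.invRing ⟶ qSh f :=
  ((f.fn.sheafAdjunctionContinuous CommRingCat.{u} K J).homEquiv O_D (qSh f)).symm (θ0 f)

theorem toQ_pl0 {W : C} {V : D} (b : W ⟶ f.fn.obj V) (r : O_D.obj.obj (op V)) :
    (toQ f).hom.app (op W) (pl0 f b r) = (toSheafify J (qPre f)).app (op W) (qVar f ⟨V, b, r⟩) := by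
  have h := (f.fn.sheafAdjunctionContinuous CommRingCat.{u} K J).homEquiv_unit (X := O_D) (f := toQ f)
  rw [toQ, Equiv.apply_symm_apply] at h
  have h' := ConcreteCategory.congr_hom (congrArg (fun t => t.hom.app (op V)) h) r
  show (toQ f).hom.app (op W) ((f.invRing.obj.map b.op).hom (((unit0 f).hom.app (op V)).hom r)) = _
  rw [NatTrans.naturality_apply]
  refine (congrArg ((qSh f).obj.map b.op) h'.symm).trans ?_
  refine (NatTrans.naturality_apply (toSheafify J (qPre f)) b.op _).symm.trans (congrArg _ ?_)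
  exact (qPre_map_var f b _).trans (congrArg (qVar f) (by simp [resV]))

/-- A pulled-back section vanishes only if it vanishes locally before pulling back. -/
theorem pl0_eq_zero {W : C} {V : D} (b : W ⟶ f.fn.obj V) (r : O_D.obj.obj (op V)) (h : pl0 f b r = 0) :
    ∃ S ∈ J W, ∀ ⦃W' : C⦄ (g : W' ⟶ W), S g → ∃ (V' : D) (q : V' ⟶ V) (b' : W' ⟶ f.fn.obj V'),
      g ≫ b = b' ≫ f.fn.map q ∧ (O_D.obj.map q.op).hom r = 0 := by
  have h0 : (toSheafify J (qPre f)).app (op W) (qVar f ⟨V, b, r⟩) = (toSheafify J (qPre f)).app (op W) 0 := by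
    rw [← toQ_pl0, h, map_zero, map_zero]
  refine exists_cover_bind _ (Presheaf.equalizerSieve_mem J (toSheafify J (qPre f)) _ _ h0) fun W₁ g hg => ?_
  have hg' : (qPre f).map g.op (qVar f ⟨V, b, r⟩) = (qPre f).map g.op 0 := hg
  rw [qPre_map_var, map_zero] at hg'
  obtain ⟨S, hS, hS'⟩ := Ideal.Quotient.eq_zero_iff_mem.1 hg'
  refine ⟨S, hS, fun W₂ k hk => ?_⟩
  obtain ⟨V', b', ρ, hρ, h0'⟩ := hS' k hk
  obtain ⟨q, hq, hρq⟩ := hρ (resV f g ⟨V, b, r⟩) (by rw [MvPolynomial.vars_X]; exact Finset.mem_singleton_self _)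
  rw [evalV_X] at h0'
  exact ⟨V', q, b', (Category.assoc _ _ _).trans hq, hρq.symm.trans h0'⟩

/-- Evaluation in `f⁻¹O_D`. -/
noncomputable def evI (W : C) : MvPolynomial (Var f W) ℤ →+* f.invRing.obj.obj (op W) :=
  MvPolynomial.eval₂Hom (Int.castRingHom _) fun x => pl0 f x.2.1 x.2.2

theorem evI_res {W W' : C} (g : W' ⟶ W) (p : MvPolynomial (Var f W) ℤ) :
    (f.invRing.obj.map g.op).hom (evI f W p) = evI f W' (MvPolynomial.rename (resV f g) p) := by
  refine RingHom.congr_fun (f := (f.invRing.obj.map g.op).hom.comp (evI f W))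
    (g := (evI f W').comp (MvPolynomial.rename (resV f g)).toRingHom)
    (MvPolynomial.ringHom_ext (fun r => by simp [evI]) (fun x => ?_)) p
  simp only [RingHom.comp_apply, evI, AlgHom.toRingHom_eq_coe, RingHom.coe_coe, MvPolynomial.rename_X,
    MvPolynomial.eval₂Hom_X', resV]
  exact pl0_res f x.2.1 g x.2.2

theorem evI_fits {W W' : C} {g : W' ⟶ W} {V' : D} {b : W' ⟶ f.fn.obj V'} {p : MvPolynomial (Var f W) ℤ}
    {ρ : Var f W → O_D.obj.obj (op V')} (h : Fits g b p.vars ρ) :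
    (f.invRing.obj.map g.op).hom (evI f W p) = pl0 f b (evalV ρ p) := by
  have e1 : ∀ (φ : MvPolynomial (Var f W) ℤ →+* f.invRing.obj.obj (op W')),
      φ p = MvPolynomial.eval₂Hom (Int.castRingHom _) (fun x => φ (MvPolynomial.X x)) p := fun φ =>
    RingHom.congr_fun (MvPolynomial.ringHom_ext (fun r => by simp) (fun x => by simp)) p
  refine (e1 ((f.invRing.obj.map g.op).hom.comp (evI f W))).trans ((MvPolynomial.eval₂Hom_congr' rfl (fun {x} hx _ => ?_) rfl).trans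
    (e1 ((pl0 f b).comp (evalV ρ))).symm)
  obtain ⟨q, hq, hρ⟩ := h x hx
  simp only [RingHom.comp_apply, evalV_X, evI, MvPolynomial.eval₂Hom_X']
  rw [pl0_res, hq, hρ, pl0_map]

/-- The evaluation of classes. -/
noncomputable def evQ : qPre f ⟶ f.invRing.obj where
  app W := CommRingCat.ofHom (Ideal.Quotient.lift (nullI f W.unop) (evI f W.unop) fun p hp => by
    obtain ⟨S, hS, hS'⟩ := hp
    have hsep := (((isSheaf_iff_isSheaf_of_type J _).1
      (Presheaf.isSheaf_comp_of_isSheaf J f.invRing.obj (forget CommRingCat.{u}) f.invRing.property)) S hS).isSeparatedFor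
    refine hsep.ext fun W' g hg => ?_
    obtain ⟨V', b, ρ, hρ, h0⟩ := hS' g hg
    show (f.invRing.obj.map g.op).hom (evI f W.unop p) = (f.invRing.obj.map g.op).hom 0
    rw [evI_fits f hρ, h0, map_zero, map_zero])
  naturality W W' g := CommRingCat.hom_ext (Ideal.Quotient.ringHom_ext (RingHom.ext fun p =>
    (evI_res f g.unop p).symm))

/-- The inverse of `toQ`. -/
noncomputable def fromQ : qSh f ⟶ f.invRing :=
  ((sheafificationAdjunction J CommRingCat.{u}).homEquiv (qPre f) f.invRing).symm (evQ f)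

theorem fromQ_toSheafify (W : C) (p : (qPre f).obj (op W)) :
    (fromQ f).hom.app (op W) ((toSheafify J (qPre f)).app (op W) p) = (evQ f).app (op W) p := by
  have h := (sheafificationAdjunction J CommRingCat.{u}).homEquiv_unit (X := qPre f) (f := fromQ f)
  rw [fromQ, Equiv.apply_symm_apply] at h
  exact (ConcreteCategory.congr_hom (congrArg (fun t => t.app (op W)) h) p).symm

theorem toQ_fromQ : toQ f ≫ fromQ f = 𝟙 f.invRing := by
  refine ((f.fn.sheafAdjunctionContinuous CommRingCat.{u} K J).homEquiv O_D f.invRing).injective ?_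
  rw [Adjunction.homEquiv_unit, Adjunction.homEquiv_id]
  refine Sheaf.hom_ext (NatTrans.ext (funext fun V => CommRingCat.hom_ext (RingHom.ext fun r => ?_)))
  show (fromQ f).hom.app (op (f.fn.obj V.unop)) ((toQ f).hom.app (op (f.fn.obj V.unop))
    (((unit0 f).hom.app V).hom r)) = ((unit0 f).hom.app V).hom r
  have e : ((unit0 f).hom.app V).hom r = pl0 f (𝟙 (f.fn.obj V.unop)) r := by
    show _ = (f.invRing.obj.map (𝟙 (f.fn.obj V.unop)).op).hom (((unit0 f).hom.app V).hom r)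
    rw [op_id, CategoryTheory.Functor.map_id]
    rfl
  rw [e, toQ_pl0, fromQ_toSheafify]
  show evI f _ (MvPolynomial.X _) = _
  exact MvPolynomial.eval₂Hom_X' _ _ _

/-- Sections of `f⁻¹O_D` come locally from `O_D`. -/
theorem exists_pl0 {W : C} (x : f.invRing.obj.obj (op W)) :
    ∃ S ∈ J W, ∀ ⦃W' : C⦄ (g : W' ⟶ W), S g → ∃ (V : D) (b : W' ⟶ f.fn.obj V) (r : O_D.obj.obj (op V)),
      (f.invRing.obj.map g.op).hom x = pl0 f b r := by
  refine exists_cover_bind _ (Presheaf.imageSieve_mem J (toSheafify J (qPre f)) (U := op W) ((toQ f).hom.app (op W) x))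
    fun W₁ g hg => ?_
  obtain ⟨t, ht⟩ := hg
  obtain ⟨p, rfl⟩ := Ideal.Quotient.mk_surjective t
  have hx : (f.invRing.obj.map g.op).hom x = evI f W₁ p := by
    have e := ConcreteCategory.congr_hom (congrArg (fun t => t.hom.app (op W₁)) (toQ_fromQ f))
      ((f.invRing.obj.map g.op).hom x)
    refine e.symm.trans ?_
    show (fromQ f).hom.app (op W₁) ((toQ f).hom.app (op W₁) _) = _
    rw [NatTrans.naturality_apply]
    refine (congrArg ((fromQ f).hom.app (op W₁)) ht.symm).trans ?_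
    exact fromQ_toSheafify f W₁ _
  obtain ⟨S, hS, hS'⟩ := exists_fits p.vars
  refine ⟨S, hS, fun W₂ k hk => ?_⟩
  obtain ⟨V, b, ρ, hρ⟩ := hS' k hk
  exact ⟨V, b, evalV ρ p, by rw [map_ring_comp, hx]; exact evI_fits f hρ⟩

theorem invSharp_pl0 {W : C} {V : D} (b : W ⟶ f.fn.obj V) (r : O_D.obj.obj (op V)) :
    f.invSharp.hom.app (op W) (pl0 f b r) = Groth.Agent.PullFlat.pl f b r := by
  have h := (f.fn.sheafAdjunctionContinuous CommRingCat.{u} K J).homEquiv_unit (X := O_D) (f := f.invSharp)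
  rw [RMor.invSharp, Equiv.apply_symm_apply] at h
  show f.invSharp.hom.app (op W) ((f.invRing.obj.map b.op).hom (((unit0 f).hom.app (op V)).hom r)) =
    (O_C.obj.map b.op).hom ((f.sharp.hom.app (op V)).hom r)
  rw [NatTrans.naturality_apply]
  exact congrArg (O_C.obj.map b.op).hom
    (ConcreteCategory.congr_hom (congrArg (fun t => t.hom.app (op V)) h) r).symm

end Groth.Agent.InvRing
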